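import Mathlib

/-!
# S3371 (Passman: half-transitive `p`-groups of linear maps): shared definitions (helper4)

`ρ : G →* (V ≃ₗ[ZMod q] V)` is the action.  `stab ρ v` is the stabiliser of a vector, `EqStab ρ` says
that the stabilisers of the non-zero vectors all have the same order, `Semireg ρ` that they are
trivial, `CentFpf ρ` that the non-identity central elements fix no non-zero vector, and
`tr ρ p g v = ∑ i < p, ρ (g ^ i) v` is the trace operator of an element with `g ^ p = 1`.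
-/

set_option autoImplicit false

namespace Cfsg.Agent.Lib.H4.HT

variable {q : ℕ} {V : Type*} [AddCommGroup V] [Module (ZMod q) V] {G : Type*} [Group G]

theorem rho_mul (ρ : G →* (V ≃ₗ[ZMod q] V)) (g h : G) (v : V) : ρ (g * h) v = ρ g (ρ h v) := by
  rw [map_mul]
  rfl

theorem rho_one (ρ : G →* (V ≃ₗ[ZMod q] V)) (v : V) : ρ 1 v = v := by
  rw [map_one]
  rfl

theorem rho_inv_apply (ρ : G →* (V ≃ₗ[ZMod q] V)) (g : G) (v : V) : ρ g⁻¹ (ρ g v) = v := by
  rw [← rho_mul, inv_mul_cancel, rho_one]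

theorem rho_apply_inv (ρ : G →* (V ≃ₗ[ZMod q] V)) (g : G) (v : V) : ρ g (ρ g⁻¹ v) = v := by
  rw [← rho_mul, mul_inv_cancel, rho_one]

/-- The stabiliser of the vector `v`. -/
def stab (ρ : G →* (V ≃ₗ[ZMod q] V)) (v : V) : Subgroup G where
  carrier := {g | ρ g v = v}
  one_mem' := rho_one ρ v
  mul_mem' := by
    intro a b ha hb
    change ρ a v = v at ha; change ρ b v = v at hb; change ρ (a * b) v = v
    rw [rho_mul, hb, ha]
  inv_mem' := by
    intro a ha
    change ρ a v = v at ha; change ρ a⁻¹ v = v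
    have := rho_inv_apply ρ a v
    rwa [ha] at this

theorem mem_stab {ρ : G →* (V ≃ₗ[ZMod q] V)} {v : V} {g : G} : g ∈ stab ρ v ↔ ρ g v = v := Iff.rfl

/-- All stabilisers of non-zero vectors have the same order. -/
def EqStab (ρ : G →* (V ≃ₗ[ZMod q] V)) : Prop :=
  ∀ v w : V, v ≠ 0 → w ≠ 0 → Nat.card (stab ρ v) = Nat.card (stab ρ w)

/-- The action is semiregular on the non-zero vectors. -/
def Semireg (ρ : G →* (V ≃ₗ[ZMod q] V)) : Prop :=
  ∀ v : V, v ≠ 0 → ∀ g : G, ρ g v = v → g = 1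

/-- The non-identity central elements have no non-zero fixed vector. -/
def CentFpf (ρ : G →* (V ≃ₗ[ZMod q] V)) : Prop :=
  ∀ z ∈ Subgroup.center G, z ≠ 1 → ∀ v : V, ρ z v = v → v = 0

/-- The trace operator `v ↦ ∑ i < p, ρ (g ^ i) v`. -/
def tr (ρ : G →* (V ≃ₗ[ZMod q] V)) (p : ℕ) (g : G) (v : V) : V :=
  ∑ i ∈ Finset.range p, ρ (g ^ i) v

end Cfsg.Agent.Lib.H4.HT
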